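import Groth.Agent.Pi1.H416.SepField
import Groth.Agent.S0240

/-!
# Finite etale covers of proper schemes and local homomorphisms of strictly henselian local rings

`restrict_isEquivalence`: `A → A'` a local homomorphism of henselian local rings with separably closed
residue fields and `X` proper over `A`; base change of finite etale covers from `X` to `X_{A'}` is an
equivalence.
-/

set_option autoImplicit false
universe u

open CategoryTheory CategoryTheory.Limits AlgebraicGeometry

namespace Groth.Agent.Pi1.H416.SHProper

open Groth.Agent.Pi1A.FEtAffine Groth.Agent.Pi1.H416.SepField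

/-- Let `A → A'` be a local homomorphism of henselian local rings with separably closed residue
fields and `X` proper over `A`. Base change of finite etale covers from `X` to `X_{A'}` is an
equivalence. -/
theorem restrict_isEquivalence (A A' : Type u) [CommRing A] [CommRing A'] [HenselianLocalRing A]
    [HenselianLocalRing A'] [IsSepClosed (IsLocalRing.ResidueField A)]
    [IsSepClosed (IsLocalRing.ResidueField A')] [Algebra A A'] [IsLocalHom (algebraMap A A')]
    {X : Scheme.{u}} (f : X ⟶ Spec (CommRingCat.of A)) [IsProper f] :
    (FEt.restrict (pullback.fst f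
      (Spec.map (CommRingCat.ofHom (algebraMap A A'))))).IsEquivalence := by
  let k := IsLocalRing.ResidueField A
  let k' := IsLocalRing.ResidueField A'
  let t : Spec (CommRingCat.of k) ⟶ Spec (CommRingCat.of A) :=
    Spec.map (CommRingCat.ofHom (IsLocalRing.residue A))
  let s : Spec (CommRingCat.of k') ⟶ Spec (CommRingCat.of k) :=
    Spec.map (CommRingCat.ofHom (algebraMap k k'))
  let t' : Spec (CommRingCat.of A') ⟶ Spec (CommRingCat.of A) :=
    Spec.map (CommRingCat.ofHom (algebraMap A A'))
  let s' : Spec (CommRingCat.of k') ⟶ Spec (CommRingCat.of A') :=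
    Spec.map (CommRingCat.ofHom (IsLocalRing.residue A'))
  have hst : s ≫ t = s' ≫ t' := by
    simp only [s, t, s', t', ← Spec.map_comp, ← CommRingCat.ofHom_comp]
    congr 2
  obtain ⟨c, hc, hcp⟩ := exists_trans f t s
  obtain ⟨c', hc', hcp'⟩ := exists_trans f t' s'
  have h1 : (FEt.restrict (pullback.fst f t)).IsEquivalence := Groth.Agent.S0240.result A f
  have h2 : (FEt.restrict c).IsEquivalence :=
    isEquivalence_of_isPullback hcp
      (restrict_isEquivalence_of_isSepClosed k k' (pullback.snd f t))
  have h3 : (FEt.restrict (pullback.fst f (s ≫ t))).IsEquivalence := by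
    rw [← hc]
    exact restrict_isEquivalence_comp _ _
  have h4 : (FEt.restrict c').IsEquivalence :=
    isEquivalence_of_isPullback hcp' (Groth.Agent.S0240.result A' (pullback.snd f t'))
  rw [hst, ← hc'] at h3
  exact isEquivalence_right c' (pullback.fst f t') h3 h4

end Groth.Agent.Pi1.H416.SHProper
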