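import Groth.Prelude.Def_SGA1t
import Groth.Agent.Pi1A.Clopen
import Mathlib.AlgebraicGeometry.Sites.EtalePoint
import Mathlib.FieldTheory.IsAlgClosed.AlgebraicClosure

/-!
# Descent of principal covers along a morphism inducing an equivalence on finite etale covers

* `isEmpty_of_restrict`: a finite etale cover is empty if its base change is.
* `clopen_eq_empty`: a clopen subset of a finite etale cover `Z` of `Y` is empty if it contains no geometric
  point of `Z` lying over a geometric point of `Y'`.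
* `isPrincipal_of_points`: `SGA1t.IsPrincipal` can be checked on geometric points of `Y` coming from `Y'`.
* `isPrincipal_of_iso`: descent of `SGA1t.IsPrincipal` along `g`.
-/

set_option autoImplicit false
universe u v

open CategoryTheory CategoryTheory.Limits AlgebraicGeometry

namespace Groth.Agent.Pi1.H416.PrincDesc

open Groth.Agent.Pi1A Groth.Agent.Pi1A.FEtAffine

/-- A geometric point with values in an algebraically closed field above a given point. -/
theorem exists_geomPt (X : Scheme.{u}) (x : X) :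
    ∃ (Ω : Type u) (_ : Field Ω) (_ : IsAlgClosed Ω) (s : Spec (CommRingCat.of Ω) ⟶ X),
      ∀ p, s p = x := by
  let Ω := AlgebraicClosure (X.residueField x)
  refine ⟨Ω, inferInstance, inferInstance,
    Spec.map (CommRingCat.ofHom (algebraMap (X.residueField x) Ω)) ≫
      X.fromSpecResidueField x, fun p ↦ ?_⟩
  rw [Scheme.Hom.comp_apply]
  exact X.fromSpecResidueField_apply x _

section Graph

variable {X Y : Scheme.{u}} (p : X ⟶ Y) (a : X ⟶ X) (ha : a ≫ p = p)

/-- The graph of an endomorphism. -/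
noncomputable def graph (ha : a ≫ p = p) : X ⟶ pullback p p :=
  pullback.lift (𝟙 _) a (by rw [Category.id_comp, ha])

@[reassoc]
lemma graph_fst : graph p a ha ≫ pullback.fst p p = 𝟙 _ :=
  pullback.lift_fst _ _ _

@[reassoc]
lemma graph_snd : graph p a ha ≫ pullback.snd p p = a :=
  pullback.lift_snd _ _ _

lemma isOpenImmersion_graph [Etale p] : IsOpenImmersion (graph p a ha) := by
  have hE : Etale (graph p a ha) := by
    have : Etale (graph p a ha ≫ pullback.fst p p) := by rw [graph_fst]; infer_instance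
    exact Etale.of_comp (graph p a ha) (pullback.fst p p)
  have hM : Mono (graph p a ha) := by
    have : Mono (graph p a ha ≫ pullback.fst p p) := by rw [graph_fst]; infer_instance
    exact mono_of_mono _ (pullback.fst p p)
  exact IsOpenImmersion.of_flat_of_mono _

lemma isClosedImmersion_graph [IsFinite p] : IsClosedImmersion (graph p a ha) := by
  have : IsClosedImmersion (graph p a ha ≫ pullback.fst p p) := by
    rw [graph_fst]; infer_instance
  exact IsClosedImmersion.of_comp (graph p a ha) (pullback.fst p p)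

lemma isClopen_range_graph [IsFinite p] [Etale p] : IsClopen (Set.range (graph p a ha)) := by
  have h1 := isOpenImmersion_graph p a ha
  have h2 := isClosedImmersion_graph p a ha
  exact ⟨(graph p a ha).isClosedEmbedding.isClosed_range,
    (graph p a ha).isOpenEmbedding.isOpen_range⟩

/-- A geometric point of the fibre square lies in the range of the graph of `a` iff its components are
related by `a`. -/
lemma mem_range_graph_iff [Etale p] {Ω : Type u} [Field Ω]
    (s t : Spec (CommRingCat.of Ω) ⟶ X) (h : s ≫ p = t ≫ p) (z : Spec (CommRingCat.of Ω)) :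
    pullback.lift s t h z ∈ Set.range (graph p a ha) ↔ s ≫ a = t := by
  have h1 := isOpenImmersion_graph p a ha
  constructor
  · intro hz
    let r := IsOpenImmersion.lift (graph p a ha) (pullback.lift s t h) (by
      rintro _ ⟨q, rfl⟩
      rwa [Subsingleton.elim q z])
    have hr : r ≫ graph p a ha = pullback.lift s t h := IsOpenImmersion.lift_fac _ _ _
    have h2 : r = s := by
      have h3 := congrArg (· ≫ pullback.fst p p) hr
      simpa only [Category.assoc, graph_fst, Category.comp_id, pullback.lift_fst] using h3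
    have h4 := congrArg (· ≫ pullback.snd p p) hr
    simpa only [Category.assoc, graph_snd, h2, pullback.lift_snd] using h4
  · intro hs
    have hs' : pullback.lift s t h = s ≫ graph p a ha := by
      apply pullback.hom_ext
      · rw [Category.assoc, graph_fst, Category.comp_id, pullback.lift_fst]
      · rw [Category.assoc, graph_snd, hs, pullback.lift_snd]
    rw [hs', Scheme.Hom.comp_apply]
    exact ⟨_, rfl⟩

end Graph

variable {Y Y' : Scheme.{u}} (g : Y' ⟶ Y)

/-- A finite etale cover is empty as soon as its base change is empty. -/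
theorem isEmpty_of_restrict [(FEt.restrict g).ReflectsIsomorphisms] (T : FEt.Cat Y)
    (h : IsEmpty ((FEt.restrict g).obj T).left) : IsEmpty T.left := by
  have h1 : IsFinite T.hom := T.prop.1
  have h2 : Etale T.hom := T.prop.2
  have hcl : IsClosed (Set.range T.hom) := T.hom.isClosedMap.isClosed_range
  have hop : IsOpen (Set.range T.hom) := T.hom.isOpenMap.isOpen_range
  have h3 := Clopen.eq_bot_of_preimage_eq_bot g ⟨Set.range T.hom, hop⟩ hcl (by
    ext y
    refine ⟨fun hy ↦ ?_, fun hy ↦ False.elim hy⟩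
    have hy' : y ∈ Set.range ((FEt.restrict g).obj T).hom := by
      have h4 : Set.range ((FEt.restrict g).obj T).hom = g ⁻¹' (Set.range T.hom) :=
        Scheme.Pullback.range_snd T.hom g
      rw [h4]
      exact hy
    obtain ⟨t, -⟩ := hy'
    exact h.elim t)
  constructor
  intro t
  have h5 : T.hom t ∈ (⟨Set.range T.hom, hop⟩ : Y.Opens) := ⟨t, rfl⟩
  rw [h3] at h5
  exact h5

/-- A clopen subset of a finite etale cover `Z` of `Y` is empty if it contains no geometric
point of `Z` lying over a geometric point of `Y'`. -/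
theorem clopen_eq_empty [(FEt.restrict g).ReflectsIsomorphisms] {Z : Scheme.{u}} (z : Z ⟶ Y)
    (hz : FEt.prop z) (W : Set Z) (hW : IsClopen W)
    (h : ∀ (Ω : Type u) [Field Ω] [IsAlgClosed Ω] (s : Spec (CommRingCat.of Ω) ⟶ Z)
      (ξ : Spec (CommRingCat.of Ω) ⟶ Y'), s ≫ z = ξ ≫ g → ∀ p, s p ∉ W) : W = ∅ := by
  let V : Z.Opens := ⟨W, hW.isOpen⟩
  have hV : FEt.prop V.ι := Clopen.prop_ι_of_isClosed V hW.isClosed
  let T : FEt.Cat Y := MorphismProperty.Over.mk ⊤ (V.ι ≫ z) (FEt.prop.comp_mem _ _ hV hz)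
  have hT : IsEmpty T.left := by
    apply isEmpty_of_restrict g T
    constructor
    intro x
    obtain ⟨Ω, _, _, s, hs⟩ := exists_geomPt ((FEt.restrict g).obj T).left x
    let q : ((FEt.restrict g).obj T).left ⟶ V := proj g T
    have hq : q ≫ V.ι ≫ z = ((FEt.restrict g).obj T).hom ≫ g := (isPullback g T).w
    refine h Ω (s ≫ q ≫ V.ι) (s ≫ ((FEt.restrict g).obj T).hom) ?_ default ?_
    · simp only [Category.assoc, hq]
    · simp only [Scheme.Hom.comp_apply]
      exact (q (s default)).2
  rw [Set.eq_empty_iff_forall_notMem]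
  intro z hz
  exact hT.elim (⟨z, hz⟩ : V)

/-- `SGA1t.IsPrincipal` can be checked on the geometric points coming from `Y'` if `FEt.restrict g`
reflects isomorphisms. -/
theorem isPrincipal_of_points [(FEt.restrict g).ReflectsIsomorphisms] (C : Type v) [Group C]
    [Finite C] (P : FEt.Cat Y) (ρ : C →* Aut P)
    (h : ∀ (Ω : Type u) [Field Ω] [IsAlgClosed Ω] (ξ : Spec (CommRingCat.of Ω) ⟶ Y'),
      Nonempty (FEt.fiberObj (ξ ≫ g) P) ∧
        ∀ s t : FEt.fiberObj (ξ ≫ g) P, ∃! c : C, (FEt.fiber (ξ ≫ g)).map (ρ c).hom s = t) :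
    SGA1t.IsPrincipal C P ρ := by
  let π : P.left ⟶ Y := P.hom
  have h1 : IsFinite π := P.prop.1
  have h2 : Etale π := P.prop.2
  let a : C → (P.left ⟶ P.left) := fun c ↦ (ρ c).hom.left
  have ha : ∀ c, a c ≫ π = π := fun c ↦ hom_w (ρ c).hom
  have hfib : ∀ (Ω : Type u) [Field Ω] (ξ : Spec (CommRingCat.of Ω) ⟶ Y)
      (s t : FEt.fiberObj ξ P) (c : C), (FEt.fiber ξ).map (ρ c).hom s = t ↔ s.1 ≫ a c = t.1 :=
    fun Ω _ ξ s t c ↦ ⟨fun h ↦ congrArg Subtype.val h, fun h ↦ Subtype.ext h⟩
  refine ⟨?_, ?_⟩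
  · -- surjectivity
    have hcl : IsClosed (Set.range π) := π.isClosedMap.isClosed_range
    have hop : IsOpen (Set.range π) := π.isOpenMap.isOpen_range
    have h3 : (Set.range π)ᶜ = ∅ := by
      apply clopen_eq_empty g (𝟙 Y) (FEt.prop.id_mem Y) _ ⟨hop.isClosed_compl, hcl.isOpen_compl⟩
      intro Ω _ _ s ξ hs q hq
      obtain ⟨⟨t, ht⟩⟩ := (h Ω ξ).1
      apply hq
      have ht' : t ≫ π = s := ht.trans (hs.symm.trans (Category.comp_id s))
      refine ⟨t q, ?_⟩
      rw [← Scheme.Hom.comp_apply, ht']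
    exact Set.range_eq_univ.mp (Set.compl_empty_iff.mp h3)
  · -- the graphs cover the fibre square
    have hsq : FEt.prop (pullback.fst π π ≫ π) :=
      FEt.prop.comp_mem _ _ (FEt.prop.pullback_fst _ _ P.prop) P.prop
    have hcov : (⋃ c : C, Set.range (graph π (a c) (ha c)))ᶜ = ∅ := by
      apply clopen_eq_empty g (pullback.fst π π ≫ π) hsq
      · exact (isClopen_iUnion_of_finite fun c ↦ isClopen_range_graph π (a c) (ha c)).compl
      · intro Ω _ _ s ξ hs p hp
        apply hp
        have e1 : (s ≫ pullback.fst π π) ≫ π = ξ ≫ g := by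
          rw [← hs, Category.assoc]
        have e2 : (s ≫ pullback.snd π π) ≫ π = ξ ≫ g := by
          rw [← e1, Category.assoc, Category.assoc, pullback.condition]
        have e3 : s = pullback.lift (s ≫ pullback.fst π π) (s ≫ pullback.snd π π)
            (e1.trans e2.symm) := by
          apply pullback.hom_ext
          · rw [pullback.lift_fst]
          · rw [pullback.lift_snd]
        obtain ⟨c, hc, -⟩ := (h Ω ξ).2 ⟨_, e1⟩ ⟨_, e2⟩
        refine Set.mem_iUnion.mpr ⟨c, ?_⟩
        rw [e3, mem_range_graph_iff]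
        exact (hfib _ _ _ _ c).mp hc
    have hdisj : ∀ c c' : C, c ≠ c' →
        Set.range (graph π (a c) (ha c)) ∩ Set.range (graph π (a c') (ha c')) = ∅ := by
      intro c c' hcc
      apply clopen_eq_empty g (pullback.fst π π ≫ π) hsq
      · exact (isClopen_range_graph π _ _).inter (isClopen_range_graph π _ _)
      · intro Ω _ _ s ξ hs p hp
        apply hcc
        have e1 : (s ≫ pullback.fst π π) ≫ π = ξ ≫ g := by
          rw [← hs, Category.assoc]
        have e2 : (s ≫ pullback.snd π π) ≫ π = ξ ≫ g := by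
          rw [← e1, Category.assoc, Category.assoc, pullback.condition]
        have e3 : s = pullback.lift (s ≫ pullback.fst π π) (s ≫ pullback.snd π π)
            (e1.trans e2.symm) := by
          apply pullback.hom_ext
          · rw [pullback.lift_fst]
          · rw [pullback.lift_snd]
        rw [e3] at hp
        refine ((h Ω ξ).2 ⟨_, e1⟩ ⟨_, e2⟩).unique ?_ ?_
        · exact (hfib _ _ _ _ c).mpr ((mem_range_graph_iff π (a c) (ha c) _ _ _ p).mp hp.1)
        · exact (hfib _ _ _ _ c').mpr ((mem_range_graph_iff π (a c') (ha c') _ _ _ p).mp hp.2)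
    intro Ω _ _ ξ s t
    have hst : s.1 ≫ π = t.1 ≫ π := s.2.trans t.2.symm
    have key : ∀ c : C, (FEt.fiber ξ).map (ρ c).hom s = t ↔
        pullback.lift s.1 t.1 hst default ∈ Set.range (graph π (a c) (ha c)) := by
      intro c
      rw [mem_range_graph_iff, hfib]
    have hmem : pullback.lift s.1 t.1 hst default ∈
        ⋃ c : C, Set.range (graph π (a c) (ha c)) := by
      rw [Set.compl_empty_iff] at hcov
      rw [hcov]
      trivial
    obtain ⟨c, hc⟩ := Set.mem_iUnion.mp hmem
    refine ⟨c, (key c).mpr hc, fun c' hc' ↦ ?_⟩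
    by_contra hne
    have : pullback.lift s.1 t.1 hst default ∈ (∅ : Set ↥(pullback π π)) := by
      rw [← hdisj c' c hne]
      exact ⟨(key c').mp hc', hc⟩
    exact this

/-- Descent of `SGA1t.IsPrincipal` along `g`. -/
theorem isPrincipal_of_iso [(FEt.restrict g).ReflectsIsomorphisms] (C : Type v) [Group C]
    [Finite C] (P : FEt.Cat Y) (ρ : C →* Aut P) (P' : FEt.Cat Y') (ρ' : C →* Aut P')
    (e : (FEt.restrict g).obj P ≅ P')
    (he : ∀ c : C, (FEt.restrict g).map (ρ c).hom ≫ e.hom = e.hom ≫ (ρ' c).hom)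
    (h : SGA1t.IsPrincipal C P' ρ') : SGA1t.IsPrincipal C P ρ := by
  apply isPrincipal_of_points g
  intro Ω _ _ ξ
  have he' : ∀ c : C, (ρ' c).hom ≫ e.inv = e.inv ≫ (FEt.restrict g).map (ρ c).hom := by
    intro c
    rw [Iso.eq_inv_comp, ← Category.assoc, ← he, Category.assoc, Iso.hom_inv_id, Category.comp_id]
  -- the bijection of the fibres
  let Φ : FEt.fiberObj ξ P' → FEt.fiberObj (ξ ≫ g) P := fun s ↦
    ⟨s.1 ≫ e.inv.left ≫ proj g P, by
      rw [Category.assoc, Category.assoc, (isPullback g P).w, ← Category.assoc e.inv.left,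
        hom_w e.inv, ← Category.assoc, s.2]⟩
  let Ψ : FEt.fiberObj (ξ ≫ g) P → FEt.fiberObj ξ P' := fun s ↦
    ⟨(isPullback g P).lift s.1 ξ s.2 ≫ e.hom.left, by
      rw [Category.assoc, hom_w e.hom, (isPullback g P).lift_snd]⟩
  have h8 : e.hom.left ≫ e.inv.left = 𝟙 _ := by
    rw [← MorphismProperty.Comma.comp_left, Iso.hom_inv_id]; rfl
  have h9 : e.inv.left ≫ e.hom.left = 𝟙 _ := by
    rw [← MorphismProperty.Comma.comp_left, Iso.inv_hom_id]; rfl
  have hΦΨ : ∀ s, Φ (Ψ s) = s := by
    intro s
    apply Subtype.ext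
    change ((isPullback g P).lift s.1 ξ s.2 ≫ e.hom.left) ≫ e.inv.left ≫ proj g P = s.1
    rw [Category.assoc, reassoc_of% h8, (isPullback g P).lift_fst]
  have hΦ : Function.Injective Φ := by
    intro s t hst
    have h2 : s.1 ≫ e.inv.left ≫ proj g P = t.1 ≫ e.inv.left ≫ proj g P :=
      congrArg Subtype.val hst
    have h3 : s.1 ≫ e.inv.left = t.1 ≫ e.inv.left := by
      apply (isPullback g P).hom_ext
      · rwa [Category.assoc, Category.assoc]
      · rw [Category.assoc, Category.assoc, hom_w e.inv, s.2, t.2]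
    apply Subtype.ext
    have h5 := congrArg (· ≫ e.hom.left) h3
    simp only [Category.assoc, h9] at h5
    exact (Category.comp_id _).symm.trans (h5.trans (Category.comp_id _))
  have hact : ∀ (c : C) (s : FEt.fiberObj ξ P'),
      Φ ((FEt.fiber ξ).map (ρ' c).hom s) = (FEt.fiber (ξ ≫ g)).map (ρ c).hom (Φ s) := by
    intro c s
    apply Subtype.ext
    change (s.1 ≫ (ρ' c).hom.left) ≫ e.inv.left ≫ proj g P =
      (s.1 ≫ e.inv.left ≫ proj g P) ≫ (ρ c).hom.left
    have h6 : (ρ' c).hom.left ≫ e.inv.left =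
        e.inv.left ≫ ((FEt.restrict g).map (ρ c).hom).left := by
      have := congrArg (fun a ↦ a.left) (he' c)
      simpa using this
    rw [Category.assoc, ← Category.assoc (ρ' c).hom.left, h6, Category.assoc, map_left_proj]
    simp only [Category.assoc]
  refine ⟨?_, ?_⟩
  · obtain ⟨y, hy⟩ := h.1 (ξ default)
    have h1 : Etale P'.hom := P'.prop.2
    obtain ⟨t, ht, -⟩ := Scheme.exists_fac_of_etale_of_isSepClosed P'.hom ξ y hy
    exact ⟨Φ ⟨t, ht⟩⟩
  · intro s t
    obtain ⟨c, hc, hu⟩ := h.2 Ω ξ (Ψ s) (Ψ t)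
    refine ⟨c, ?_, ?_⟩
    · change (FEt.fiber (ξ ≫ g)).map (ρ c).hom s = t
      rw [← hΦΨ s, ← hact, hc, hΦΨ]
    · intro c' hc'
      apply hu
      apply hΦ
      rw [hact, hΦΨ, hΦΨ]
      exact hc'

/-- Descent of principal covers along a morphism inducing an equivalence on finite etale covers. -/
theorem exists_isPrincipal [(FEt.restrict g).IsEquivalence] (C : Type v) [Group C] [Finite C]
    (P' : FEt.Cat Y') (ρ' : C →* Aut P') (h : SGA1t.IsPrincipal C P' ρ') :
    ∃ (P : FEt.Cat Y) (ρ : C →* Aut P), SGA1t.IsPrincipal C P ρ ∧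
      ∃ e : (FEt.restrict g).obj P ≅ P',
        ∀ c : C, (FEt.restrict g).map (ρ c).hom ≫ e.hom = e.hom ≫ (ρ' c).hom := by
  obtain ⟨P, ⟨e⟩⟩ := Functor.EssSurj.mem_essImage (F := FEt.restrict g) P'
  let hF : (FEt.restrict g).FullyFaithful := Functor.FullyFaithful.ofFullyFaithful _
  let ρ : C →* Aut P := (hF.autMulEquivOfFullyFaithful P).symm.toMonoidHom.comp
    (e.symm.conjAut.toMonoidHom.comp ρ')
  have hρ : ∀ c : C, (FEt.restrict g).map (ρ c).hom = e.hom ≫ (ρ' c).hom ≫ e.inv := by
    intro c
    have h1 : hF.autMulEquivOfFullyFaithful P (ρ c) = e.symm.conjAut (ρ' c) :=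
      (hF.autMulEquivOfFullyFaithful P).apply_symm_apply _
    have h2 := congrArg Iso.hom h1
    rw [Iso.conjAut_apply] at h2
    exact h2
  have he : ∀ c : C, (FEt.restrict g).map (ρ c).hom ≫ e.hom = e.hom ≫ (ρ' c).hom := by
    intro c
    rw [hρ, Category.assoc, Category.assoc, Iso.inv_hom_id, Category.comp_id]
  exact ⟨P, ρ, isPrincipal_of_iso g C P ρ P' ρ' e he h, e, he⟩

/-- Isomorphisms of covers with group action descend along a morphism inducing a fully faithful
functor on finite etale covers. -/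
theorem exists_iso [(FEt.restrict g).Full] [(FEt.restrict g).Faithful] (C : Type v) [Group C]
    (P Q : FEt.Cat Y) (ρ : C →* Aut P) (τ : C →* Aut Q)
    (h : ∃ e' : (FEt.restrict g).obj P ≅ (FEt.restrict g).obj Q,
        ∀ c : C, (FEt.restrict g).map (ρ c).hom ≫ e'.hom =
          e'.hom ≫ (FEt.restrict g).map (τ c).hom) :
    ∃ e : P ≅ Q, ∀ c : C, (ρ c).hom ≫ e.hom = e.hom ≫ (τ c).hom := by
  obtain ⟨e', he'⟩ := h
  refine ⟨(FEt.restrict g).preimageIso e', fun c ↦ (FEt.restrict g).map_injective ?_⟩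
  simp only [Functor.map_comp, Functor.preimageIso_hom, Functor.map_preimage]
  exact he' c

end Groth.Agent.Pi1.H416.PrincDesc
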