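import Groth.Agent.Pi1A.FEtAffine
import Groth.Agent.Pi1B.PurInsepSpec
import Groth.Agent.S0289
import Groth.Agent.S0242
import Mathlib.FieldTheory.PurelyInseparable.Basic
import Mathlib.FieldTheory.IsAlgClosed.AlgebraicClosure
import Mathlib.FieldTheory.IsSepClosed

/-!
# Finite etale covers of proper schemes under extensions of separably closed fields

* `isEquivalence_of_isPullback`: `FEt.restrict` along the first projection of a cartesian square
  depends only on the cospan.
* `restrict_isEquivalence_of_isPurelyInseparable`: base change along a purely inseparable field extension.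
* `restrict_isEquivalence_of_isSepClosed`: base change along an extension of separably closed
  fields, for a proper scheme.
-/

set_option autoImplicit false
universe u

open CategoryTheory CategoryTheory.Limits AlgebraicGeometry

namespace Groth.Agent.Pi1.H416.SepField

open Groth.Agent.Pi1A.FEtAffine

theorem isEquivalence_of_isPullback {P X Y Z : Scheme.{u}} {p : P ⟶ X} {q : P ⟶ Y} {f : X ⟶ Z}
    {g : Y ⟶ Z} (h : IsPullback p q f g)
    (he : (FEt.restrict (pullback.fst f g)).IsEquivalence) : (FEt.restrict p).IsEquivalence := by
  have h1 : h.isoPullback.hom ≫ pullback.fst f g = p := h.isoPullback_hom_fst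
  rw [← h1]
  exact restrict_isEquivalence_comp _ _

theorem isEquivalence_fst_of_isPullback {P X Y Z : Scheme.{u}} {p : P ⟶ X} {q : P ⟶ Y} {f : X ⟶ Z}
    {g : Y ⟶ Z} (h : IsPullback p q f g)
    (he : (FEt.restrict p).IsEquivalence) : (FEt.restrict (pullback.fst f g)).IsEquivalence := by
  have h1 : h.isoPullback.inv ≫ p = pullback.fst f g := h.isoPullback_inv_fst
  rw [← h1]
  exact restrict_isEquivalence_comp _ _

/-- Two out of three, the right-hand morphism. -/
theorem isEquivalence_right {X Y Z : Scheme.{u}} (f : X ⟶ Y) (g : Y ⟶ Z)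
    (h1 : (FEt.restrict (f ≫ g)).IsEquivalence) (h2 : (FEt.restrict f).IsEquivalence) :
    (FEt.restrict g).IsEquivalence := by
  have h3 : (FEt.restrict g ⋙ FEt.restrict f).IsEquivalence :=
    Functor.isEquivalence_of_iso (restrictComp f g)
  exact Functor.isEquivalence_of_comp_right (FEt.restrict g) (FEt.restrict f)

/-- Two out of three, the left-hand morphism. -/
theorem isEquivalence_left {X Y Z : Scheme.{u}} (f : X ⟶ Y) (g : Y ⟶ Z)
    (h1 : (FEt.restrict (f ≫ g)).IsEquivalence) (h2 : (FEt.restrict g).IsEquivalence) :
    (FEt.restrict f).IsEquivalence := by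
  have h3 : (FEt.restrict g ⋙ FEt.restrict f).IsEquivalence :=
    Functor.isEquivalence_of_iso (restrictComp f g)
  exact Functor.isEquivalence_of_comp_left (FEt.restrict g) (FEt.restrict f)

/-- Base change along a purely inseparable extension of fields. -/
theorem restrict_isEquivalence_of_isPurelyInseparable (k K : Type u) [Field k] [Field K]
    [Algebra k K] [IsPurelyInseparable k K] {X : Scheme.{u}} (f : X ⟶ Spec (CommRingCat.of k)) :
    (FEt.restrict (pullback.fst f
      (Spec.map (CommRingCat.ofHom (algebraMap k K))))).IsEquivalence := by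
  have h1 : UniversallyInjective (Spec.map (CommRingCat.ofHom (algebraMap k K))) :=
    Groth.Agent.Pi1B.PurInsepSpec.universallyInjective_specMap k K
  have h2 : IsIntegralHom (Spec.map (CommRingCat.ofHom (algebraMap k K))) :=
    Groth.Agent.Pi1B.PurInsepSpec.isIntegralHom_specMap k K
  have h3 : Surjective (Spec.map (CommRingCat.ofHom (algebraMap k K))) :=
    Groth.Agent.Pi1B.PurInsepSpec.surjective_specMap k K
  have h4 : UniversallyInjective (pullback.fst f
      (Spec.map (CommRingCat.ofHom (algebraMap k K)))) :=
    UniversallyInjective.isStableUnderBaseChange.of_isPullback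
      (IsPullback.of_hasPullback f _).flip h1
  exact Groth.Agent.S0289.result _

/-- Transitivity of base change: the comparison of the base changes of `f` along `t` and `s ≫ t`. -/
theorem exists_trans {X T T' S : Scheme.{u}} (f : X ⟶ S) (t : T ⟶ S) (s : T' ⟶ T) :
    ∃ c : pullback f (s ≫ t) ⟶ pullback f t, c ≫ pullback.fst f t = pullback.fst f (s ≫ t) ∧
      IsPullback c (pullback.snd f (s ≫ t)) (pullback.snd f t) s := by
  let c : pullback f (s ≫ t) ⟶ pullback f t :=
    pullback.lift (pullback.fst f (s ≫ t)) (pullback.snd f (s ≫ t) ≫ s)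
      (by rw [pullback.condition, Category.assoc])
  have hc1 : c ≫ pullback.fst f t = pullback.fst f (s ≫ t) := pullback.lift_fst _ _ _
  have hc2 : c ≫ pullback.snd f t = pullback.snd f (s ≫ t) ≫ s := pullback.lift_snd _ _ _
  refine ⟨c, hc1, IsPullback.of_right (h₁₂ := pullback.fst f t) (v₁₃ := f) (h₂₂ := t) ?_ hc2
    (IsPullback.of_hasPullback f t)⟩
  rw [hc1]
  exact IsPullback.of_hasPullback f (s ≫ t)

/-- Let `X` be proper over a separably closed field `k` and `k'` a separably closed extension. Base
change of finite etale covers from `X` to `X_{k'}` is an equivalence. -/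
theorem restrict_isEquivalence_of_isSepClosed (k k' : Type u) [Field k] [Field k'] [IsSepClosed k]
    [IsSepClosed k'] [Algebra k k'] {X : Scheme.{u}} (f : X ⟶ Spec (CommRingCat.of k))
    [IsProper f] :
    (FEt.restrict (pullback.fst f
      (Spec.map (CommRingCat.ofHom (algebraMap k k'))))).IsEquivalence := by
  let K := AlgebraicClosure k
  let K' := AlgebraicClosure k'
  -- the purely inseparable extensions `K / k` and `K' / k'`
  have hK : IsPurelyInseparable k K := inferInstance
  have hK' : IsPurelyInseparable k' K' := inferInstance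
  let φ : K →ₐ[k] K' := IsAlgClosed.lift
  letI : Algebra K K' := φ.toRingHom.toAlgebra
  let t : Spec (CommRingCat.of K) ⟶ Spec (CommRingCat.of k) :=
    Spec.map (CommRingCat.ofHom (algebraMap k K))
  let s : Spec (CommRingCat.of K') ⟶ Spec (CommRingCat.of K) :=
    Spec.map (CommRingCat.ofHom (algebraMap K K'))
  let t' : Spec (CommRingCat.of k') ⟶ Spec (CommRingCat.of k) :=
    Spec.map (CommRingCat.ofHom (algebraMap k k'))
  let s' : Spec (CommRingCat.of K') ⟶ Spec (CommRingCat.of k') :=
    Spec.map (CommRingCat.ofHom (algebraMap k' K'))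
  have hst : s ≫ t = s' ≫ t' := by
    simp only [s, t, s', t', ← Spec.map_comp, ← CommRingCat.ofHom_comp]
    congr 2
    exact (φ.comp_algebraMap).trans (IsScalarTower.algebraMap_eq k k' K')
  obtain ⟨c, hc, hcp⟩ := exists_trans f t s
  obtain ⟨c', hc', hcp'⟩ := exists_trans f t' s'
  have h1 : (FEt.restrict (pullback.fst f t)).IsEquivalence :=
    restrict_isEquivalence_of_isPurelyInseparable k K f
  have h2 : (FEt.restrict c).IsEquivalence :=
    isEquivalence_of_isPullback hcp (Groth.Agent.S0242.result K K' (pullback.snd f t))
  have h3 : (FEt.restrict (pullback.fst f (s ≫ t))).IsEquivalence := by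
    rw [← hc]
    exact restrict_isEquivalence_comp _ _
  have h4 : (FEt.restrict c').IsEquivalence :=
    isEquivalence_of_isPullback hcp'
      (restrict_isEquivalence_of_isPurelyInseparable k' K' (pullback.snd f t'))
  rw [hst, ← hc'] at h3
  exact isEquivalence_right c' (pullback.fst f t') h3 h4

end Groth.Agent.Pi1.H416.SepField
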