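import Groth.Prelude.Def_Hensel
import Groth.Agent.S0538

/-!
# Maps out of a strict henselization compatible with a local homomorphism are local
-/

set_option autoImplicit false
universe u

namespace Groth.Agent.Pi1.H416.SHLocal

/-- A ring map from a strict henselization `R` of `O` to a local ring `R'` is local as soon as
`O → R → R'` is. -/
theorem isLocalHom_of_comp (O R : Type u) {R' : Type u} [CommRing O] [IsLocalRing O]
    [CommRing R] [IsLocalRing R] [Algebra O R] [IsLocalHom (algebraMap O R)]
    [Hensel.IsStrictHenselization O R] [CommRing R'] [IsLocalRing R'] (ψ : R →+* R')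
    (h : IsLocalHom (ψ.comp (algebraMap O R))) : IsLocalHom ψ := by
  refine ((IsLocalRing.local_hom_TFAE ψ).out 0 2).mpr ?_
  rw [← Groth.Agent.S0538.result O R, Ideal.map_map]
  exact ((IsLocalRing.local_hom_TFAE (ψ.comp (algebraMap O R))).out 0 2).mp h

/-- The form needed for strict localisations of a morphism of schemes. -/
theorem isLocalHom {O O' R R' : Type u} [CommRing O] [IsLocalRing O] [CommRing R]
    [IsLocalRing R] [Algebra O R] [IsLocalHom (algebraMap O R)]
    [Hensel.IsStrictHenselization O R] [CommRing O'] [IsLocalRing O'] [CommRing R']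
    [IsLocalRing R'] [Algebra O' R'] [IsLocalHom (algebraMap O' R')] (φ : O →+* O')
    [IsLocalHom φ] (ψ : R →+* R')
    (h : ψ.comp (algebraMap O R) = (algebraMap O' R').comp φ) : IsLocalHom ψ := by
  apply isLocalHom_of_comp O R ψ
  rw [h]
  infer_instance

/-- The residue field of a strict henselization is separably closed. -/
theorem isSepClosed_residueField (O R : Type u) [CommRing O] [IsLocalRing O] [CommRing R]
    [IsLocalRing R] [Algebra O R] [IsLocalHom (algebraMap O R)]
    [h : Hensel.IsStrictHenselization O R] : IsSepClosed (IsLocalRing.ResidueField R) :=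
  h.isSepClosure.1

end Groth.Agent.Pi1.H416.SHLocal
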